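import Mathlib.RingTheory.DiscreteValuationRing.TFAE
import Mathlib.RingTheory.DedekindDomain.Different
import Mathlib.RingTheory.DedekindDomain.IntegralClosure
import Mathlib.RingTheory.Derivation.Basic
import Mathlib.RingTheory.Localization.AtPrime.Basic
import Mathlib.FieldTheory.Separable

/-!
# Derivations and tame ramification

`R ⊆ R'` discrete valuation rings with fraction fields `K ⊆ K'`, `K' / K` finite, residue characteristic zero, `e` the
ramification index, `ϖ` a uniformizer of `R'`. A derivation `D` of `K'` with `D R ⊆ R'` satisfies `ϖ ^ (e - 1) D R' ⊆ R'`.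
-/

set_option autoImplicit false
universe u

open Polynomial IsLocalRing

namespace K165.Der

section core

variable {R R' K' : Type*} [CommRing R] [CommRing R'] [IsDomain R'] [IsDiscreteValuationRing R'] [Field K']
  [Algebra R R'] [Algebra R' K'] [IsFractionRing R' K'] (D : Derivation ℤ R' K')

omit [IsDomain R'] [IsDiscreteValuationRing R'] [IsFractionRing R' K'] in
/-- the chain rule for a polynomial over `R`, modulo `R'` -/
theorem exists_aeval (hR : ∀ r : R, ∃ s, D (algebraMap R R' r) = algebraMap R' K' s) (x : R') (f : R[X]) :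
    ∃ y : R', D (aeval x f) = algebraMap R' K' y + algebraMap R' K' (aeval x (derivative f)) * D x := by
  induction f using Polynomial.induction_on' with
  | add p q hp hq =>
    obtain ⟨y, hy⟩ := hp
    obtain ⟨z, hz⟩ := hq
    exact ⟨y + z, by rw [map_add, map_add, hy, hz, derivative_add, map_add, map_add, map_add]; ring⟩
  | monomial n a =>
    obtain ⟨s, hs⟩ := hR a
    refine ⟨s * x ^ n, ?_⟩
    rw [aeval_monomial, Derivation.leibniz, hs, Derivation.leibniz_pow, derivative_monomial, aeval_monomial]
    simp only [nsmul_eq_mul]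
    simp only [Algebra.smul_def, map_mul, map_pow, map_natCast]
    ring

theorem core {π : R} {ϖ : R'} (hϖ : Irreducible ϖ) {e : ℕ} (u : R'ˣ)
    (hR : ∀ r : R, ∃ s, D (algebraMap R R' r) = algebraMap R' K' s)
    (hfin : ∃ t : ℕ, ∀ x : R', ∃ y : R', algebraMap R' K' (ϖ ^ t) * D x = algebraMap R' K' y)
    (hπ : algebraMap R R' π = u * ϖ ^ e) (he : IsUnit (e : R'))
    (hsep : ∀ x : R', ∃ f : R[X], aeval x f ∈ maximalIdeal R' ∧ IsUnit (aeval x (derivative f))) (x : R') :
    ∃ y : R', algebraMap R' K' (ϖ ^ (e - 1)) * D x = algebraMap R' K' y := by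
  classical
  have he0 : e ≠ 0 := by
    rintro rfl
    simp at he
  have hϖm : ∀ z ∈ maximalIdeal R', ∃ w, z = ϖ * w := by
    intro z hz
    rw [(IsDiscreteValuationRing.irreducible_iff_uniformizer ϖ).1 hϖ, Ideal.mem_span_singleton'] at hz
    obtain ⟨w, hw⟩ := hz
    exact ⟨w, by rw [← hw, mul_comm]⟩
  let t := Nat.find hfin
  have ht : ∀ x : R', ∃ y : R', algebraMap R' K' (ϖ ^ t) * D x = algebraMap R' K' y := Nat.find_spec hfin
  have hϖ0 : algebraMap R' K' ϖ ≠ 0 := by
    rw [Ne, IsFractionRing.to_map_eq_zero_iff]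
    exact hϖ.ne_zero
  rcases Nat.lt_or_ge (e - 1) t with hlt | hge
  · exfalso
    have hte : e ≤ t := by omega
    -- the uniformizer
    have h1 : ∃ w, algebraMap R' K' (ϖ ^ t) * D ϖ = algebraMap R' K' (ϖ * w) := by
      obtain ⟨s, hs⟩ := hR π
      obtain ⟨a, ha⟩ := ht (u : R')
      obtain ⟨b, hb⟩ := ht ϖ
      rw [hπ, Derivation.leibniz, Derivation.leibniz_pow] at hs
      simp only [nsmul_eq_mul] at hs
      simp only [Algebra.smul_def, map_pow] at hs
      have h2 : algebraMap R' K' ((e : R') * u * b) = algebraMap R' K' (ϖ ^ (t - e + 1) * s - ϖ * a) := by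
        have h3 : algebraMap R' K' (ϖ ^ t) = algebraMap R' K' ϖ ^ (t - e + 1) * algebraMap R' K' ϖ ^ (e - 1) := by
          rw [map_pow, ← pow_add]
          congr 1
          omega
        have h4 : algebraMap R' K' ϖ ^ (t - e + 1) * algebraMap R' K' ϖ ^ e =
            algebraMap R' K' ϖ * algebraMap R' K' (ϖ ^ t) := by
          rw [map_pow, ← pow_add, ← pow_succ']
          congr 1
          omega
        simp only [map_mul, map_sub, map_pow, map_natCast]
        rw [← hb, ← ha, h3, ← hs]
        have h5 : algebraMap R' K' ϖ * (algebraMap R' K' ϖ ^ (t - e + 1) * algebraMap R' K' ϖ ^ (e - 1) * D (u : R')) =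
            algebraMap R' K' ϖ ^ (t - e + 1) * algebraMap R' K' ϖ ^ e * D (u : R') := by
          rw [h4, h3]
          ring
        rw [h5]
        ring
      have h6 : (e : R') * u * b ∈ maximalIdeal R' := by
        rw [IsFractionRing.injective R' K' h2]
        have hm : ϖ ∈ maximalIdeal R' := (mem_maximalIdeal _).2 hϖ.not_isUnit
        exact Ideal.sub_mem _ (Ideal.mul_mem_right _ _ (Ideal.pow_mem_of_mem _ hm _ (by omega)))
          (Ideal.mul_mem_right _ _ hm)
      have h7 : b ∈ maximalIdeal R' := by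
        have h8 : IsUnit ((e : R') * u) := he.mul u.isUnit
        exact (Ideal.unit_mul_mem_iff_mem _ h8).1 h6
      obtain ⟨w, hw⟩ := hϖm b h7
      exact ⟨w, by rw [hb, hw]⟩
    obtain ⟨w, hw⟩ := h1
    have h2 : ∀ x : R', ∃ y : R', algebraMap R' K' (ϖ ^ (t - 1)) * D x = algebraMap R' K' y := by
      intro x
      obtain ⟨f, hf, hf'⟩ := hsep x
      obtain ⟨z, hz⟩ := hϖm _ hf
      obtain ⟨y, hy⟩ := exists_aeval D hR x f
      obtain ⟨c, hc⟩ := ht z
      obtain ⟨d, hd⟩ := ht x
      rw [hz, Derivation.leibniz] at hy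
      simp only [Algebra.smul_def] at hy
      have h3 : algebraMap R' K' (aeval x (derivative f) * d) =
          algebraMap R' K' (ϖ * c + z * (ϖ * w) - ϖ ^ t * y) := by
        rw [map_mul, ← hd, map_sub, map_add, map_mul, map_mul, map_mul _ (ϖ ^ t) y, ← hc, ← hw]
        linear_combination (-algebraMap R' K' (ϖ ^ t)) * hy
      have h4 : aeval x (derivative f) * d ∈ maximalIdeal R' := by
        rw [IsFractionRing.injective R' K' h3]
        have hm : ϖ ∈ maximalIdeal R' := (mem_maximalIdeal _).2 hϖ.not_isUnit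
        exact Ideal.sub_mem _ (Ideal.add_mem _ (Ideal.mul_mem_right _ _ hm)
          (Ideal.mul_mem_left _ _ (Ideal.mul_mem_right _ _ hm)))
          (Ideal.mul_mem_right _ _ (Ideal.pow_mem_of_mem _ hm _ (by omega)))
      obtain ⟨d', hd'⟩ := hϖm d ((Ideal.unit_mul_mem_iff_mem _ hf').1 h4)
      refine ⟨d', mul_left_cancel₀ hϖ0 ?_⟩
      rw [← map_mul, ← hd', ← hd, ← mul_assoc, ← map_mul, ← pow_succ']
      congr 3
      omega
    exact Nat.find_min hfin (m := t - 1) (by change t - 1 < t; omega) h2
  · obtain ⟨y, hy⟩ := ht x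
    refine ⟨ϖ ^ (e - 1 - t) * y, ?_⟩
    rw [map_mul, ← hy, ← mul_assoc, ← map_mul, ← pow_add]
    congr 3
    omega

end core

section dvr

variable {R : Type*} (K : Type*) {R' K' : Type*} [CommRing R] [IsDomain R] [IsDiscreteValuationRing R] [Field K] [Algebra R K]
  [IsFractionRing R K] [CommRing R'] [IsDomain R'] [IsDiscreteValuationRing R'] [Field K'] [Algebra R R'] [Algebra R' K']
  [IsFractionRing R' K'] [Algebra R K'] [Algebra K K'] [IsScalarTower R K K'] [IsScalarTower R R' K']

omit [IsDiscreteValuationRing R] [IsDomain R] in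
/-- every element of `K'` has bounded denominators -/
theorem exists_pow_mul {ϖ : R'} (hϖ : Irreducible ϖ) (z : K') :
    ∃ (t : ℕ) (y : R'), algebraMap R' K' (ϖ ^ t) * z = algebraMap R' K' y := by
  obtain ⟨a, b, hb, rfl⟩ := IsFractionRing.div_surjective (A := R') z
  have hb0 : b ≠ 0 := nonZeroDivisors.ne_zero hb
  obtain ⟨t, u, hu⟩ := IsDiscreteValuationRing.eq_unit_mul_pow_irreducible hb0 hϖ
  refine ⟨t, (u⁻¹ : R'ˣ) * a, ?_⟩
  have hb1 : algebraMap R' K' b ≠ 0 := by rwa [Ne, IsFractionRing.to_map_eq_zero_iff]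
  have h1 : ϖ ^ t = (u⁻¹ : R'ˣ) * b := by rw [hu, Units.inv_mul_cancel_left]
  rw [h1, map_mul, map_mul]
  field_simp

variable [FiniteDimensional K K']

omit [IsDiscreteValuationRing R] [IsDomain R] [IsFractionRing R K] [FiniteDimensional K K'] [Algebra K K'] [Field K]
  [Algebra R K] [IsScalarTower R K K'] in
/-- the integral closure of `R` in `K'` lies in `R'` -/
theorem exists_hom : ∃ ι : integralClosure R K' →+* R', ∀ b, algebraMap R' K' (ι b) = b.1 := by
  have h1 : ∀ b : integralClosure R K', ∃ r : R', algebraMap R' K' r = b.1 := fun b =>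
    (IsIntegrallyClosed.isIntegral_iff (R := R')).1 (IsIntegral.tower_top b.2)
  choose f hf using h1
  have hinj := IsFractionRing.injective R' K'
  exact ⟨{ toFun := f
           map_one' := hinj (by rw [hf, map_one]; rfl)
           map_zero' := hinj (by rw [hf, map_zero]; rfl)
           map_mul' := fun a b => hinj (by rw [hf, map_mul, hf, hf]; rfl)
           map_add' := fun a b => hinj (by rw [hf, map_add, hf, hf]; rfl) }, hf⟩

variable [Algebra.IsSeparable K K']

include K in
/-- `R'` is a localization of the integral closure of `R` -/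
theorem exists_unit_mul [IsLocalHom (algebraMap R R')] (ι : integralClosure R K' →+* R')
    (hι : ∀ b, algebraMap R' K' (ι b) = b.1) (x : R') :
    ∃ s c : integralClosure R K', IsUnit (ι s) ∧ ι s * x = ι c := by
  have hinj := IsFractionRing.injective R' K'
  have hιinj : Function.Injective ι := fun a b h => Subtype.ext (by rw [← hι, ← hι, h])
  have hD : IsDedekindDomain (integralClosure R K') := integralClosure.isDedekindDomain R K K'
  have hfr : IsFractionRing (integralClosure R K') K' := integralClosure.isFractionRing_of_finite_extension K K'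
  let Q : Ideal (integralClosure R K') := Ideal.comap ι (maximalIdeal R')
  have hQp : Q.IsPrime := Ideal.comap_isPrime _ _
  have hunit : ∀ s : integralClosure R K', s ∉ Q → IsUnit (ι s) := by
    intro s hs
    by_contra h
    exact hs ((mem_maximalIdeal _).2 h)
  have hQ : Q ≠ ⊥ := by
    obtain ⟨π, hπ⟩ := IsDiscreteValuationRing.exists_irreducible R
    intro h0
    have h1 : (algebraMap R (integralClosure R K') π) ∈ Q := by
      rw [Ideal.mem_comap, mem_maximalIdeal]
      have h2 : ι (algebraMap R (integralClosure R K') π) = algebraMap R R' π := hinj (by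
        rw [hι, ← IsScalarTower.algebraMap_apply]; rfl)
      rw [h2]
      exact fun h => hπ.not_isUnit (isUnit_of_map_unit _ _ h)
    rw [h0, Ideal.mem_bot] at h1
    have h3 : algebraMap R K' π = 0 := by
      rw [IsScalarTower.algebraMap_apply R (integralClosure R K') K', h1, map_zero]
    rw [IsScalarTower.algebraMap_apply R K K', map_eq_zero, IsFractionRing.to_map_eq_zero_iff] at h3
    exact hπ.ne_zero h3
  have hdvr : IsDiscreteValuationRing (Localization.AtPrime Q) :=
    IsLocalization.AtPrime.isDiscreteValuationRing_of_dedekind_domain _ hQ _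
  obtain ⟨a, b, hb, hab⟩ := IsFractionRing.div_surjective (A := integralClosure R K') (algebraMap R' K' x)
  have hb0 : b ≠ 0 := nonZeroDivisors.ne_zero hb
  have hιb : ι b ≠ 0 := fun h => hb0 (hιinj (by rw [h, map_zero]))
  have hxb : x * ι b = ι a := by
    apply hinj
    rw [map_mul, hι, hι, ← hab]
    have h1 : (algebraMap (integralClosure R K') K' b) ≠ 0 := by
      rwa [Ne, IsFractionRing.to_map_eq_zero_iff]
    exact div_mul_cancel₀ _ h1
  have hAinj : Function.Injective (algebraMap (integralClosure R K') (Localization.AtPrime Q)) :=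
    IsLocalization.injective _ Q.primeCompl_le_nonZeroDivisors
  obtain ⟨c', h⟩ := ValuationRing.cond (algebraMap _ (Localization.AtPrime Q) a) (algebraMap _ (Localization.AtPrime Q) b)
  obtain ⟨⟨c, s⟩, hc⟩ := IsLocalization.surj Q.primeCompl c'
  change c' * algebraMap _ _ s.1 = algebraMap _ _ c at hc
  rcases h with h | h
  · -- a c' = b
    have h1 : a * c = b * s.1 := hAinj (by rw [map_mul, map_mul, ← hc, ← h]; ring)
    have h2 : x * ι c = ι s.1 := by
      have h3 : ι b * (x * ι c) = ι b * ι s.1 := by
        rw [← map_mul ι b s.1, ← h1, map_mul, ← hxb]; ring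
      exact mul_left_cancel₀ hιb h3
    have h4 : IsUnit (x * ι c) := h2 ▸ hunit s.1 s.2
    exact ⟨c, s.1, isUnit_of_mul_isUnit_right h4, by rw [mul_comm, h2]⟩
  · have h1 : b * c = a * s.1 := hAinj (by rw [map_mul, map_mul, ← hc, ← h]; ring)
    refine ⟨s.1, c, hunit s.1 s.2, ?_⟩
    have h3 : ι b * (ι s.1 * x) = ι b * ι c := by
      rw [← map_mul ι b c, h1, map_mul, ← hxb]; ring
    exact mul_left_cancel₀ hιb h3

omit [IsDomain R] [IsDiscreteValuationRing R] [IsDomain R'] [IsDiscreteValuationRing R'] in
theorem isIntegral_of_mem (ι : integralClosure R K' →+* R') (hι : ∀ b, algebraMap R' K' (ι b) = b.1)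
    (b : integralClosure R K') : IsIntegral R (ι b) := by
  have h1 : IsIntegral R (algebraMap R' K' (ι b)) := by rw [hι]; exact b.2
  exact (isIntegral_algebraMap_iff (IsFractionRing.injective R' K')).1 h1

include K K' in
theorem exists_poly [IsLocalHom (algebraMap R R')] [CharZero (ResidueField R)] (x : R') :
    ∃ f : R[X], aeval x f ∈ maximalIdeal R' ∧ IsUnit (aeval x (derivative f)) := by
  obtain ⟨ι, hι⟩ := exists_hom (R := R) (R' := R') (K' := K')
  obtain ⟨s, c, hs, hsx⟩ := exists_unit_mul K ι hι x
  have halg : ∀ b, IsAlgebraic (ResidueField R) (residue R' (ι b)) := by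
    intro b
    have h1 : IsIntegral R (residue R' (ι b)) :=
      (isIntegral_of_mem ι hι b).map (IsScalarTower.toAlgHom R R' (ResidueField R'))
    exact (h1.tower_top (A := ResidueField R)).isAlgebraic
  have hx : IsIntegral (ResidueField R) (residue R' x) := by
    have h2 : residue R' x = (residue R' (ι s))⁻¹ * residue R' (ι c) := by
      have h3 : residue R' (ι s) ≠ 0 := by
        rw [Ne, residue_eq_zero_iff, mem_maximalIdeal]
        exact fun h => h hs
      rw [← hsx, map_mul, inv_mul_cancel_left₀ h3]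
    rw [h2]
    exact ((halg s).inv.mul (halg c)).isIntegral
  have hsep : (minpoly (ResidueField R) (residue R' x)).Separable := (minpoly.irreducible hx).separable
  obtain ⟨f, hf⟩ := Polynomial.map_surjective (residue R) residue_surjective (minpoly (ResidueField R) (residue R' x))
  have haev : ∀ g : R[X], residue R' (aeval x g) = aeval (residue R' x) (g.map (residue R)) := by
    intro g
    have h1 : algebraMap (ResidueField R) (ResidueField R') = ResidueField.map (algebraMap R R') := rfl
    rw [aeval_def, hom_eval₂, aeval_def, eval₂_map]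
    rfl
  refine ⟨f, ?_, ?_⟩
  · rw [← residue_eq_zero_iff, haev, hf, minpoly.aeval]
  · rw [← residue_ne_zero_iff_isUnit, haev, ← derivative_map, hf]
    exact hsep.aeval_derivative_ne_zero (minpoly.aeval _ _)

include K in
theorem exists_bound [IsLocalHom (algebraMap R R')] (D : Derivation ℤ R' K')
    (hR : ∀ r : R, ∃ s, D (algebraMap R R' r) = algebraMap R' K' s) {ϖ : R'} (hϖ : Irreducible ϖ) :
    ∃ t : ℕ, ∀ x : R', ∃ y : R', algebraMap R' K' (ϖ ^ t) * D x = algebraMap R' K' y := by
  classical
  obtain ⟨ι, hι⟩ := exists_hom (R := R) (R' := R') (K' := K')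
  have hinj := IsFractionRing.injective R' K'
  have hfin : Module.Finite R (integralClosure R K') := IsIntegralClosure.finite R K K' (integralClosure R K')
  obtain ⟨F, hF⟩ := hfin.fg_top
  have hιR : ∀ r : R, ι (algebraMap R (integralClosure R K') r) = algebraMap R R' r := fun r => hinj (by
    rw [hι, ← IsScalarTower.algebraMap_apply]; rfl)
  choose t y hty using fun b : integralClosure R K' => exists_pow_mul (R' := R') hϖ (D (ι b))
  let T := F.sup t
  have hmono : ∀ {m n : ℕ} {z : K'}, m ≤ n → (∃ y : R', algebraMap R' K' (ϖ ^ m) * z = algebraMap R' K' y) →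
      ∃ y : R', algebraMap R' K' (ϖ ^ n) * z = algebraMap R' K' y := by
    rintro m n z hmn ⟨y, hy⟩
    refine ⟨ϖ ^ (n - m) * y, ?_⟩
    rw [map_mul, ← hy, ← mul_assoc, ← map_mul, ← pow_add, Nat.sub_add_cancel hmn]
  let N : Submodule R (integralClosure R K') :=
    { carrier := {b | ∃ y : R', algebraMap R' K' (ϖ ^ T) * D (ι b) = algebraMap R' K' y}
      zero_mem' := ⟨0, by rw [map_zero, map_zero, mul_zero, map_zero]⟩
      add_mem' := by
        rintro a b ⟨y, hy⟩ ⟨z, hz⟩
        exact ⟨y + z, by rw [map_add, map_add, mul_add, hy, hz, map_add]⟩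
      smul_mem' := by
        rintro r b ⟨y, hy⟩
        obtain ⟨s, hs⟩ := hR r
        refine ⟨algebraMap R R' r * y + ι b * (ϖ ^ T * s), ?_⟩
        rw [Algebra.smul_def, map_mul, hιR, Derivation.leibniz, hs, map_add, map_mul, ← hy]
        simp only [Algebra.smul_def, map_mul]
        ring }
  have hN : ∀ b : integralClosure R K', b ∈ N := by
    intro b
    have h1 : Submodule.span R (F : Set (integralClosure R K')) ≤ N :=
      Submodule.span_le.2 fun b hb => hmono (Finset.le_sup hb) ⟨_, hty b⟩
    rw [hF] at h1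
    exact h1 trivial
  refine ⟨T, fun x => ?_⟩
  obtain ⟨s, c, hs, hsx⟩ := exists_unit_mul K ι hι x
  obtain ⟨a, ha⟩ := hN s
  obtain ⟨b, hb⟩ := hN c
  have h1 : algebraMap R' K' (ι s) * (algebraMap R' K' (ϖ ^ T) * D x) = algebraMap R' K' (b - x * a) := by
    rw [← hsx, Derivation.leibniz] at hb
    simp only [Algebra.smul_def] at hb
    rw [map_sub, map_mul, ← ha, ← hb]
    ring
  obtain ⟨v, hv⟩ := hs
  refine ⟨(v⁻¹ : R'ˣ) * (b - x * a), ?_⟩
  rw [map_mul, ← h1, ← hv, ← mul_assoc, ← map_mul, Units.inv_mul, map_one, one_mul]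

include K in
/-- derivations in a tamely ramified extension -/
theorem main [IsLocalHom (algebraMap R R')] [CharZero (ResidueField R)] (D : Derivation ℤ R' K')
    (hR : ∀ r : R, ∃ s, D (algebraMap R R' r) = algebraMap R' K' s) {ϖ : R'} (hϖ : Irreducible ϖ) {π : R}
    (hπ : Irreducible π) {e : ℕ} (u : R'ˣ) (h : algebraMap R R' π = u * ϖ ^ e) (x : R') :
    ∃ y : R', algebraMap R' K' (ϖ ^ (e - 1)) * D x = algebraMap R' K' y := by
  refine core D hϖ u hR (exists_bound K D hR hϖ) h ?_ (exists_poly K (K' := K')) x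
  have he0 : e ≠ 0 := by
    rintro rfl
    rw [pow_zero, mul_one] at h
    exact hπ.not_isUnit (isUnit_of_map_unit (algebraMap R R') π (h ▸ u.isUnit))
  have h1 : IsUnit (e : R) := by
    rw [← residue_ne_zero_iff_isUnit, map_natCast]
    exact Nat.cast_ne_zero.2 he0
  have h2 := h1.map (algebraMap R R')
  rwa [map_natCast] at h2

end dvr

end K165.Der
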