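import Groth.Agent.BunMod.K165.Der
import Mathlib.RingTheory.Trace.Quotient

/-!
# Traces and ramification

`R` a discrete valuation ring with fraction field `K`, `K' / K` finite separable. If `x ∈ K'` has `v(x) > - e` in every
discrete valuation ring of `K'` above `R` then the trace of `x` lies in `R`.
-/

set_option autoImplicit false
universe u

open Polynomial IsLocalRing

namespace K165.Tr

section

variable {R : Type*} (K : Type*) {K' : Type*} [CommRing R] [IsDomain R] [IsDiscreteValuationRing R] [Field K]
  [Algebra R K] [IsFractionRing R K] [Field K'] [Algebra R K'] [Algebra K K'] [IsScalarTower R K K']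
  [FiniteDimensional K K'] [Algebra.IsSeparable K K']

theorem trace_mem_of_forall_maximal (b : integralClosure R K')
    (hb : ∀ Q : Ideal (integralClosure R K'), Q.IsMaximal → b ∈ Q) :
    ∃ r ∈ maximalIdeal R, algebraMap R K r = Algebra.trace K K' b.1 := by
  have hD : IsDedekindDomain (integralClosure R K') := integralClosure.isDedekindDomain R K K'
  have hfr : IsFractionRing (integralClosure R K') K' := integralClosure.isFractionRing_of_finite_extension K K'
  have hfin : Module.Finite R (integralClosure R K') := IsIntegralClosure.finite R K K' (integralClosure R K')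
  have hinj : Function.Injective (algebraMap R (integralClosure R K')) := by
    have h1 : Function.Injective (algebraMap R K') := by
      rw [IsScalarTower.algebraMap_eq R K K']
      exact (algebraMap K K').injective.comp (IsFractionRing.injective R K)
    intro a c h
    apply h1
    rw [IsScalarTower.algebraMap_apply R (integralClosure R K') K', h,
      ← IsScalarTower.algebraMap_apply R (integralClosure R K') K']
  have htf : Module.IsTorsionFree R (integralClosure R K') := by
    rw [Module.isTorsionFree_iff_algebraMap_injective]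
    exact hinj
  refine ⟨Algebra.intTrace R (integralClosure R K') b, ?_, Algebra.algebraMap_intTrace (L := K') b⟩
  rw [← Ideal.Quotient.eq_zero_iff_mem, ← Algebra.trace_quotient_eq_of_isDedekindDomain]
  rw [← isNilpotent_iff_eq_zero]
  refine Algebra.isNilpotent_trace_of_isNilpotent ?_
  have h1 : b ∈ ((maximalIdeal R).map (algebraMap R (integralClosure R K'))).radical := by
    rw [Ideal.radical_eq_sInf, Submodule.mem_sInf]
    rintro P ⟨hP, hPp⟩
    refine hb P (hPp.isMaximal fun h0 => ?_)
    obtain ⟨π, hπ⟩ := IsDiscreteValuationRing.exists_irreducible R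
    have h2 : algebraMap R (integralClosure R K') π ∈ P :=
      hP (Ideal.mem_map_of_mem _ ((mem_maximalIdeal _).2 hπ.not_isUnit))
    rw [h0, Ideal.mem_bot] at h2
    exact hπ.ne_zero (hinj (by rw [h2, map_zero]))
  obtain ⟨n, hn⟩ := h1
  exact ⟨n, by rw [← map_pow, Ideal.Quotient.eq_zero_iff_mem]; exact hn⟩

end

/-- `x ∈ K'` with valuation `> - e` at all places above `R` has integral trace -/
theorem trace_mem {R K K' : Type u} [CommRing R] [IsDomain R] [IsDiscreteValuationRing R] [Field K]
    [Algebra R K] [IsFractionRing R K] [Field K'] [Algebra R K'] [Algebra K K'] [IsScalarTower R K K']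
    [FiniteDimensional K K'] [Algebra.IsSeparable K K'] (x : K') {π : R} (hπ : Irreducible π)
    (H : ∀ (R' : Type u) [CommRing R'] [IsDomain R'] [IsDiscreteValuationRing R'] [Algebra R R'] [Algebra R' K']
      [IsScalarTower R R' K'] [IsFractionRing R' K'] [IsLocalHom (algebraMap R R')],
      ∃ z ∈ maximalIdeal R', algebraMap R' K' z = algebraMap R K' π * x) :
    ∃ r : R, algebraMap R K r = Algebra.trace K K' x := by
  have hD : IsDedekindDomain (integralClosure R K') := integralClosure.isDedekindDomain R K K'
  have hfr : IsFractionRing (integralClosure R K') K' := integralClosure.isFractionRing_of_finite_extension K K'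
  have hfin : Module.Finite R (integralClosure R K') := IsIntegralClosure.finite R K K' (integralClosure R K')
  have hBinj : Function.Injective (algebraMap (integralClosure R K') K') := IsFractionRing.injective _ _
  have hπK : algebraMap R K π ≠ 0 := by
    rw [Ne, IsFractionRing.to_map_eq_zero_iff]; exact hπ.ne_zero
  have hπK' : algebraMap R K' π ≠ 0 := by
    rw [IsScalarTower.algebraMap_apply R K K', Ne, map_eq_zero]; exact hπK
  -- the local statement
  have hloc : ∀ Q : Ideal (integralClosure R K'), Q.IsMaximal → ∃ s q : integralClosure R K', s ∉ Q ∧ q ∈ Q ∧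
      s.1 * (algebraMap R K' π * x) = q.1 := by
    intro Q hQ
    have hQm : Q.comap (algebraMap R (integralClosure R K')) = maximalIdeal R :=
      eq_maximalIdeal (Ideal.isMaximal_comap_of_isIntegral_of_isMaximal Q)
    have hQ0 : Q ≠ ⊥ := by
      intro h0
      have h1 : π ∈ Q.comap (algebraMap R (integralClosure R K')) := by
        rw [hQm]; exact (mem_maximalIdeal _).2 hπ.not_isUnit
      rw [Ideal.mem_comap, h0, Ideal.mem_bot] at h1
      apply hπK'
      rw [IsScalarTower.algebraMap_apply R (integralClosure R K') K', h1, map_zero]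
    let R' := Localization.AtPrime Q
    have hdvr : IsDiscreteValuationRing R' := IsLocalization.AtPrime.isDiscreteValuationRing_of_dedekind_domain _ hQ0 _
    have hg : ∀ y : Q.primeCompl, IsUnit (algebraMap (integralClosure R K') K' y) := by
      intro y
      rw [isUnit_iff_ne_zero, Ne, IsFractionRing.to_map_eq_zero_iff]
      intro h
      exact y.2 (h ▸ Q.zero_mem)
    let _ : Algebra R' K' := (IsLocalization.lift hg).toAlgebra
    have ht1 : IsScalarTower (integralClosure R K') R' K' :=
      IsScalarTower.of_algebraMap_eq' (IsLocalization.lift_comp hg).symm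
    have hfr' : IsFractionRing R' K' :=
      IsFractionRing.isFractionRing_of_isDomain_of_isLocalization Q.primeCompl R' K'
    have ht2 : IsScalarTower R R' K' := IsScalarTower.of_algebraMap_eq fun r => by
      rw [IsScalarTower.algebraMap_apply R (integralClosure R K') R',
        ← IsScalarTower.algebraMap_apply (integralClosure R K') R' K',
        ← IsScalarTower.algebraMap_apply R (integralClosure R K') K']
    have hlh : IsLocalHom (algebraMap R R') := ⟨fun r hr => by
      by_contra hnu
      have h1 : r ∈ Q.comap (algebraMap R (integralClosure R K')) := by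
        rw [hQm]; exact (mem_maximalIdeal _).2 hnu
      have h2 : algebraMap (integralClosure R K') R' (algebraMap R _ r) ∈ maximalIdeal R' := by
        rw [IsLocalization.AtPrime.to_map_mem_maximal_iff R' Q]
        exact h1
      rw [← IsScalarTower.algebraMap_apply R (integralClosure R K') R'] at h2
      exact (mem_maximalIdeal _).1 h2 hr⟩
    obtain ⟨z, hz, hzx⟩ := H R'
    obtain ⟨⟨q, s⟩, hqs⟩ := IsLocalization.surj Q.primeCompl z
    change z * algebraMap _ _ s.1 = algebraMap _ _ q at hqs
    refine ⟨s.1, q, s.2, ?_, ?_⟩
    · rw [← IsLocalization.AtPrime.to_map_mem_maximal_iff R' Q, ← hqs]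
      exact Ideal.mul_mem_right _ _ hz
    · rw [← hzx]
      have h3 := congrArg (algebraMap R' K') hqs
      rw [map_mul, ← IsScalarTower.algebraMap_apply, ← IsScalarTower.algebraMap_apply] at h3
      rw [mul_comm]
      exact h3
  -- `π x` is integral
  have hint : ∃ b : integralClosure R K', b.1 = algebraMap R K' π * x := by
    let I : Ideal (integralClosure R K') :=
      { carrier := {s | ∃ q : integralClosure R K', s.1 * (algebraMap R K' π * x) = q.1}
        zero_mem' := ⟨0, by rw [ZeroMemClass.coe_zero, zero_mul]⟩
        add_mem' := by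
          rintro a b ⟨q, hq⟩ ⟨q', hq'⟩
          exact ⟨q + q', by rw [AddMemClass.coe_add, add_mul, hq, hq']; rfl⟩
        smul_mem' := by
          rintro c a ⟨q, hq⟩
          exact ⟨c * q, by rw [smul_eq_mul, MulMemClass.coe_mul, mul_assoc, hq]; rfl⟩ }
    have hI : I = ⊤ := by
      by_contra hI
      obtain ⟨Q, hQ, hIQ⟩ := Ideal.exists_le_maximal I hI
      obtain ⟨s, q, hs, -, h⟩ := hloc Q hQ
      exact hs (hIQ ⟨q, h⟩)
    obtain ⟨q, hq⟩ := (Ideal.eq_top_iff_one I).1 hI
    exact ⟨q, by rw [← hq, OneMemClass.coe_one, one_mul]⟩
  obtain ⟨b, hb⟩ := hint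
  obtain ⟨r, hr, hrb⟩ := trace_mem_of_forall_maximal K b (fun Q hQ => by
    obtain ⟨s, q, hs, hq, h⟩ := hloc Q hQ
    have h1 : s * b = q := Subtype.ext (by rw [← h, ← hb]; rfl)
    exact (hQ.isPrime.mem_or_mem (h1 ▸ hq)).resolve_left hs)
  rw [(IsDiscreteValuationRing.irreducible_iff_uniformizer π).1 hπ, Ideal.mem_span_singleton'] at hr
  obtain ⟨r', rfl⟩ := hr
  refine ⟨r', mul_left_cancel₀ hπK ?_⟩
  have h2 : Algebra.trace K K' b.1 = algebraMap R K π * Algebra.trace K K' x := by
    rw [hb, IsScalarTower.algebraMap_apply R K K', ← Algebra.smul_def, map_smul, smul_eq_mul]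
  rw [← h2, ← hrb, map_mul, mul_comm]

end K165.Tr
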